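import Cfsg.Agent.H554.RG

/-!
# S4898 (task 2060, helper621): automorphisms and parabolic subgroups of a group with a root group datum
-/

set_option autoImplicit false
set_option linter.unusedSectionVars false

namespace Cfsg.Agent.H621.Deg

open Cfsg CoxeterSystem Cfsg.Agent.ChevalleyStructure.CoxeterGeom Cfsg.Agent.Tits.Roots Cfsg.Agent.Tits.Core
  Cfsg.Agent.Tits.Exchange Cfsg.Agent.Nodes.Reps Cfsg.Agent.Nodes.BNOf Cfsg.Agent.Nodes.StabComb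
  Cfsg.Agent.Nodes.OppDec Cfsg.Agent.Nodes.Bruhat Cfsg.Agent.Nodes.LeviDec
  Cfsg.Agent.KFacts.RgdOpp Cfsg.Agent.KFacts.RgdAut Cfsg.Agent.KFacts.RgdDiag

variable {I W Y : Type*} [Fintype I] [DecidableEq I] [Group W] [Group Y] {M : CoxeterMatrix I}
  {cs : CoxeterSystem M W} {A : I → I → ℤ} {h : IsCartan M A} {p : ℕ} {T : Subgroup Y} {n : I → Y}
  {X : (I → ℤ) → Subgroup Y}

theorem map_conj_of_mem {P : Subgroup Y} {g : Y} (hg : g ∈ P) : P.map (MulAut.conj g).toMonoidHom = P := by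
  apply le_antisymm
  · rintro _ ⟨x, hx, rfl⟩
    exact P.mul_mem (P.mul_mem hg hx) (P.inv_mem hg)
  · intro x hx
    refine ⟨g⁻¹ * x * g, P.mul_mem (P.mul_mem (P.inv_mem hg) hx) hg, ?_⟩
    show g * (g⁻¹ * x * g) * g⁻¹ = x
    group

theorem aut_par [Finite W] (R : RGD cs h p T n X) (hG : GG cs h T X = ⊤) (α : MulAut Y)
    (hα : ∀ x, α x ∈ RGD.Sup X (RGD.Pos cs h) ↔ x ∈ RGD.Sup X (RGD.Pos cs h)) :
    ∃ σ : Equiv.Perm I, (∀ i j, M (σ i) (σ j) = M i j) ∧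
      (∀ J : Set I, (PJ cs h T X J).map α.toMonoidHom = PJ cs h T X (σ '' J)) ∧
      ∀ s, ∃ b ∈ RGD.B cs h T X, ∃ b' ∈ RGD.B cs h T X, α (n s) = b * n (σ s) * b' := by
  obtain ⟨u, hu, h2, h3, h4, -, -⟩ := exists_frame R hG hα
  obtain ⟨σ, hσ⟩ := exists_diag R hG h2 h4
  have huB : u ∈ RGD.B cs h T X := RGD.U_le_B hu
  have hval : ∀ x, α x = u⁻¹ * (MulAut.conj u * α) x * u := by
    intro x
    show α x = u⁻¹ * (u * α x * u⁻¹) * u
    group
  refine ⟨σ, fun i j => Diag.matrix (R := R) hσ i j, ?_, ?_⟩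
  · intro J
    have h5 := Cfsg.Agent.H554.RG.map_PJ R hG ⟨hσ, h2, h3⟩ J
    have huP : u⁻¹ ∈ PJ cs h T X (σ '' J) := (PJ cs h T X (σ '' J)).inv_mem (B_le_PJ huB)
    have h6 : α.toMonoidHom = (MulAut.conj u⁻¹).toMonoidHom.comp (MulAut.conj u * α : MulAut Y).toMonoidHom := by
      ext x
      show α x = u⁻¹ * (MulAut.conj u * α) x * u⁻¹⁻¹
      rw [inv_inv, ← hval]
    rw [h6, ← Subgroup.map_map, h5, map_conj_of_mem huP]
  · intro s
    have h5 : Rp cs R.nsys (cs.simple (σ s)) ((MulAut.conj u * α) (n s)) := Diag.rp (R := R) hσ s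
    have h6 := (rp_simple cs R.nsys (σ s)).unique h5
    refine ⟨u⁻¹, (RGD.B cs h T X).inv_mem huB, (n (σ s))⁻¹ * (MulAut.conj u * α) (n s) * u,
      (RGD.B cs h T X).mul_mem (RGD.T_le_B h6) huB, ?_⟩
    rw [hval]
    group

end Cfsg.Agent.H621.Deg
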