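import Cfsg.Agent.S4460
import Cfsg.Agent.S4458
import Cfsg.Agent.H596.Degree
import Cfsg.Prelude.Def_DegreeGraph

/-!
# S4898 (task 2061, helper621): a maximal non-solvable quotient has the same degrees
-/

set_option autoImplicit false

namespace Cfsg.Agent.H621.Deg

open Cfsg

universe u

/-- the degrees form a finite set -/
theorem finite_degrees (G : Type u) [Group G] [Finite G] : (charDegrees G).Finite := by
  have := Characters.Core.finite_irr (G := G)
  exact Set.finite_range (fun χ : IrrCharacter G => charDegree (χ : G → ℂ))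

theorem one_mem (G : Type u) [Group G] [Finite G] : 1 ∈ charDegrees G :=
  ⟨⟨1, Characters.Core.isIrr_one⟩, Blocks.Basic.charDegree_of_eq (by simp)⟩

theorem degrees_le {G H : Type u} [Group G] [Finite G] [Group H] [Finite H] (f : G →* H)
    (hf : Function.Surjective f) : charDegrees H ⊆ charDegrees G := by
  rintro d ⟨χ, rfl⟩
  exact ⟨⟨_, Characters.Core.isIrr_comp f hf χ.2⟩, Cfsg.Agent.H596.charDegree_comp f χ.2⟩

/-- **a finite group with at most three character degrees is solvable** -/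
theorem solvable_of_le {G : Type u} [Group G] [Finite G] (h : (charDegrees G).ncard ≤ 3) : Group.IsSolvable G := by
  have h1 := one_mem G
  have hpos : 0 < (charDegrees G).ncard := (Set.ncard_pos (finite_degrees G)).2 ⟨1, h1⟩
  have h2 : (charDegrees G).ncard = 1 ∨ (charDegrees G).ncard = 2 ∨ (charDegrees G).ncard = 3 := by omega
  rcases h2 with h2 | h2 | h2
  · obtain ⟨a, ha⟩ := Set.ncard_eq_one.1 h2
    have hall : ∀ χ : IrrCharacter G, charDegree (χ : G → ℂ) = 1 := by
      intro χ
      have h3 : charDegree (χ : G → ℂ) ∈ charDegrees G := ⟨χ, rfl⟩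
      rw [ha] at h1 h3
      rw [Set.mem_singleton_iff] at h1 h3
      rw [h3, h1]
    exact Group.isSolvable_of_comm (Cfsg.Agent.H596.comm_of_charDegree_eq_one hall)
  · obtain ⟨a, b, hab, hS⟩ := Set.ncard_eq_two.1 h2
    obtain ⟨m, hm1, hS⟩ : ∃ m, m ≠ 1 ∧ charDegrees G = {1, m} := by
      rw [hS] at h1
      rcases h1 with rfl | h1
      · exact ⟨b, hab.symm, hS⟩
      · rw [Set.mem_singleton_iff] at h1
        subst h1
        exact ⟨a, hab, by rw [hS, Set.pair_comm]⟩
    have h3 := Cfsg.Agent.S4458.result m (G := G) (fun χ => by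
      have h3 : charDegree (χ : G → ℂ) ∈ charDegrees G := ⟨χ, rfl⟩
      rw [hS] at h3
      exact h3) (by
      have h3 : m ∈ charDegrees G := by rw [hS]; exact Or.inr rfl
      exact h3) hm1
    have h4 : derivedSeries G 2 = ⊥ := by
      rw [derivedSeries_succ, derivedSeries_one, Subgroup.commutator_eq_bot_iff_le_centralizer]
      intro x hx
      rw [Subgroup.mem_centralizer_iff]
      intro y hy
      exact h3 y hy x hx
    exact ⟨2, h4⟩
  · exact ⟨3, Cfsg.Agent.S4460.result (G := G) h2⟩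

theorem exists_quot {G : Type u} [Group G] [Finite G] (hG : ¬ Group.IsSolvable G) (h4 : (charDegrees G).ncard = 4) :
    ∃ (N : Subgroup G) (_ : N.Normal) (K : Subgroup (G ⧸ N)), K.Normal ∧
      (∀ L : Subgroup (G ⧸ N), L.Normal → L ≤ K → L = ⊥ ∨ L = K) ∧ (¬ ∀ x ∈ K, ∀ y ∈ K, Commute x y) ∧
      Subgroup.centralizer (K : Set (G ⧸ N)) = ⊥ ∧ charDegrees (G ⧸ N) = charDegrees G := by
  classical
  -- a maximal normal subgroup with non-solvable quotient
  obtain ⟨N, ⟨hN, hNs⟩, hmax⟩ := (Set.toFinite {N : Subgroup G | ∃ _ : N.Normal, ¬ Group.IsSolvable (G ⧸ N)}).exists_maximal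
    ⟨⊥, inferInstance, fun h => hG (Group.isSolvable_of_surjective
      (f := (QuotientGroup.quotientBot (G := G)).toMonoidHom) (QuotientGroup.quotientBot (G := G)).surjective)⟩
  have hquot : ∀ L : Subgroup (G ⧸ N), ∀ _ : L.Normal, L ≠ ⊥ → Group.IsSolvable ((G ⧸ N) ⧸ L) := by
    intro L hL hL1
    by_contra hs
    have hle : N ≤ L.comap (QuotientGroup.mk' N) := by
      intro x hx
      show (x : G ⧸ N) ∈ L
      rw [(QuotientGroup.eq_one_iff x).2 hx]
      exact L.one_mem
    have h1 : L.comap (QuotientGroup.mk' N) ≤ N := hmax ⟨inferInstance, fun h => hs ?_⟩ hle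
    · apply hL1
      rw [eq_bot_iff]
      intro y hy
      obtain ⟨x, rfl⟩ := QuotientGroup.mk'_surjective N y
      rw [Subgroup.mem_bot]
      exact (QuotientGroup.eq_one_iff x).2 (h1 hy)
    · let f : G ⧸ L.comap (QuotientGroup.mk' N) →* (G ⧸ N) ⧸ L :=
        QuotientGroup.lift _ ((QuotientGroup.mk' L).comp (QuotientGroup.mk' N)) (by
          intro x hx
          exact (QuotientGroup.eq_one_iff _).2 hx)
      refine Group.isSolvable_of_surjective (f := f) ?_
      intro y
      obtain ⟨y, rfl⟩ := QuotientGroup.mk'_surjective L y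
      obtain ⟨x, rfl⟩ := QuotientGroup.mk'_surjective N y
      exact ⟨(x : G ⧸ _), rfl⟩
  have hext : ∀ L : Subgroup (G ⧸ N), ∀ _ : L.Normal, L ≠ ⊥ → ¬ Group.IsSolvable L := by
    intro L hL hL1 hs
    have h1 := hquot L hL hL1
    exact hNs (Group.isSolvable_of_ker_le_range L.subtype (QuotientGroup.mk' L) (by simp))
  -- a minimal normal subgroup
  have htop : (⊤ : Subgroup (G ⧸ N)) ≠ ⊥ := fun h => hNs (Group.isSolvable_of_top_eq_bot _ h)
  obtain ⟨K, ⟨hK, hK1⟩, hmin⟩ := (Set.toFinite {K : Subgroup (G ⧸ N) | K.Normal ∧ K ≠ ⊥}).exists_minimal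
    ⟨⊤, inferInstance, htop⟩
  have hna : ¬ ∀ x ∈ K, ∀ y ∈ K, Commute x y := by
    intro h
    exact hext K hK hK1 (Group.isSolvable_of_comm fun a b => Subtype.ext (h a a.2 b b.2))
  have hmin' : ∀ L : Subgroup (G ⧸ N), L.Normal → L ≤ K → L = ⊥ ∨ L = K := by
    intro L hL hLK
    by_cases h0 : L = ⊥
    · exact Or.inl h0
    · exact Or.inr (le_antisymm hLK (hmin ⟨hL, h0⟩ hLK))
  refine ⟨N, hN, K, hK, hmin', hna, ?_, ?_⟩
  · by_contra hC
    have hCn : (Subgroup.centralizer (K : Set (G ⧸ N))).Normal := inferInstance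
    have h1 := hquot _ hCn hC
    have h2 : Subgroup.centralizer (K : Set (G ⧸ N)) ⊓ K = ⊥ := by
      rcases hmin' (Subgroup.centralizer (K : Set (G ⧸ N)) ⊓ K) inferInstance inf_le_right with h | h
      · exact h
      · exfalso
        apply hna
        intro x hx y hy
        have h3 : y ∈ Subgroup.centralizer (K : Set (G ⧸ N)) := (inf_eq_right.1 h) hy
        exact Subgroup.mem_centralizer_iff.1 h3 x hx
    apply hext K hK hK1
    refine Group.isSolvable_of_isSolvable_injective
      (f := (QuotientGroup.mk' (Subgroup.centralizer (K : Set (G ⧸ N)))).comp K.subtype) ?_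
    rw [← MonoidHom.ker_eq_bot_iff, eq_bot_iff]
    intro x hx
    rw [MonoidHom.mem_ker] at hx
    have h3 : (x : G ⧸ N) ∈ Subgroup.centralizer (K : Set (G ⧸ N)) := (QuotientGroup.eq_one_iff _).1 hx
    have h4 : (x : G ⧸ N) ∈ Subgroup.centralizer (K : Set (G ⧸ N)) ⊓ K := ⟨h3, x.2⟩
    rw [h2, Subgroup.mem_bot] at h4
    exact Subgroup.mem_bot.2 (Subtype.ext h4)
  · have h1 : charDegrees (G ⧸ N) ⊆ charDegrees G := degrees_le (QuotientGroup.mk' N) (QuotientGroup.mk'_surjective N)
    refine Set.eq_of_subset_of_ncard_le h1 ?_ (finite_degrees G)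
    rw [h4]
    by_contra h2
    exact hNs (solvable_of_le (by omega))

end Cfsg.Agent.H621.Deg
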