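import Cfsg.Agent.H912.KnownSplit
import Cfsg.Agent.H219.HerSmall
import Cfsg.Agent.H498.SporOut
import Cfsg.Agent.H867.TitsOut
import Cfsg.Agent.H171.AltGoal

/-!
# S4898 (task 2062, helper621): the simple groups and their outer automorphisms
-/

set_option autoImplicit false

namespace Cfsg.Agent.H621.Deg

open Cfsg

universe u

theorem split_of_known {S : Type u} [Group S] [Finite S] [IsSimpleGroup S] (hk : IsKnownSimple' S)
    (hna : ¬ ∀ x y : S, x * y = y * x) :
    (∃ n, 7 ≤ n ∧ Nonempty (S ≃* alternatingGroup (Fin n))) ∨ (∃ p, p.Prime ∧ IsLieTypeChar p S) ∨ Lie.IsoTits S ∨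
      IsSporadicGroup S := by
  rcases Cfsg.Agent.H912.Known.known_split hk (by
    intro h
    have h0 : (Nat.card S).Prime := h
    have : Fact (Nat.card S).Prime := ⟨h0⟩
    have h1 : IsCyclic S := isCyclic_of_prime_card (p := Nat.card S) rfl
    exact hna fun x y => (IsCyclic.commGroup (α := S)).mul_comm x y) with h | h | h | h
  · obtain ⟨n, hn, ⟨e⟩⟩ := h
    rcases (by omega : n = 5 ∨ n = 6 ∨ 7 ≤ n) with rfl | rfl | h7
    · exact Or.inr (Or.inl ⟨2, Nat.prime_two, Cfsg.Agent.H219.HerSmall.lie_alt5 e⟩)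
    · exact Or.inr (Or.inl ⟨3, Nat.prime_three, Cfsg.Agent.H219.HerSmall.lie_alt6 e⟩)
    · exact Or.inl ⟨n, h7, ⟨e⟩⟩
  · exact Or.inr (Or.inl h)
  · exact Or.inr (Or.inr (Or.inl h))
  · exact Or.inr (Or.inr (Or.inr h))

/-- at most two outer classes -/
theorem index_le_two {K : Type u} [Group K]
    (h : (∃ n, 7 ≤ n ∧ Nonempty (K ≃* alternatingGroup (Fin n))) ∨ Lie.IsoTits K ∨ IsSporadicGroup K) :
    (MulAut.conj : K →* MulAut K).range.index ≤ 2 := by
  rcases h with ⟨n, hn, ⟨e⟩⟩ | h | h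
  · exact Cfsg.Agent.H498.SporOut.le_two_of e le_rfl (Cfsg.Agent.H171.AltGoal.card_out (by omega) (by omega))
  · exact Cfsg.Agent.H867.TitsOut.card_out_le h
  · exact Cfsg.Agent.H498.SporOut.index_le_two h

theorem comm_mem {A : Type u} [Group A] [Finite A] (K : Subgroup A) (hK : K.Normal)
    (hc : Subgroup.centralizer (K : Set A) = ⊥)
    (h : (∃ n, 7 ≤ n ∧ Nonempty (K ≃* alternatingGroup (Fin n))) ∨ Lie.IsoTits K ∨ IsSporadicGroup K) :
    ∀ a b : A, a * b * a⁻¹ * b⁻¹ ∈ K := by
  have h2 := index_le_two h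
  have hfin : Finite (MulAut K) := Finite.of_injective (fun f : MulAut K => (f : K → K)) DFunLike.coe_injective
  let R : Subgroup (MulAut K) := (MulAut.conj : K →* MulAut K).range
  let f : A →* MulAut K := MulAut.conjNormal
  have key : ∀ a : A, f a ∈ R → a ∈ K := by
    rintro a ⟨k, hk⟩
    have h3 : (k : A)⁻¹ * a ∈ Subgroup.centralizer (K : Set A) := by
      rw [Subgroup.mem_centralizer_iff]
      intro x hx
      have h4 : (k : A) * x * (k : A)⁻¹ = a * x * a⁻¹ := by
        have h5 := congrArg (fun g : MulAut K => ((g ⟨x, hx⟩ : K) : A)) hk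
        simpa [f, MulAut.conjNormal_apply] using h5
      calc x * ((k : A)⁻¹ * a) = (k : A)⁻¹ * ((k : A) * x * (k : A)⁻¹) * a := by group
        _ = (k : A)⁻¹ * (a * x * a⁻¹) * a := by rw [h4]
        _ = (k : A)⁻¹ * a * x := by group
    rw [hc, Subgroup.mem_bot] at h3
    have h4 : a = k := by
      rw [← mul_one (k : A), ← h3]
      group
    rw [h4]
    exact k.2
  intro a b
  apply key
  have hi : R.index = 1 ∨ R.index = 2 := by
    have h3 : R.index ≠ 0 := Subgroup.index_ne_zero_of_finite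
    have h4 : R.index ≤ 2 := h2
    omega
  rw [map_mul, map_mul, map_mul, map_inv, map_inv]
  rcases hi with hi | hi
  · rw [Subgroup.index_eq_one] at hi
    rw [hi]
    exact Subgroup.mem_top _
  · simp only [Subgroup.mul_mem_iff_of_index_two hi, inv_mem_iff]
    tauto

end Cfsg.Agent.H621.Deg
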