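import Cfsg.Agent.H621.Deg.Split
import Cfsg.Agent.S0000

/-!
# S4898 (task 2062, helper621): `split` for all finite simple groups
-/

set_option autoImplicit false

namespace Cfsg.Agent.H621.Deg

open Cfsg

universe u

theorem split {S : Type u} [Group S] [Finite S] [IsSimpleGroup S] (hna : ¬ ∀ x y : S, x * y = y * x) :
    (∃ n, 7 ≤ n ∧ Nonempty (S ≃* alternatingGroup (Fin n))) ∨ (∃ p, p.Prime ∧ IsLieTypeChar p S) ∨ Lie.IsoTits S ∨
      IsSporadicGroup S :=
  split_of_known Cfsg.Agent.S0000.result hna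

end Cfsg.Agent.H621.Deg
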